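import Cfsg.Agent.Spor.U35aA1.D0

set_option autoImplicit false
set_option maxRecDepth 100000000
set_option Elab.async false

namespace Cfsg.Agent.Spor.U35aA1

theorem ok0 : Net.okb 1 n0 = true := by decide +kernel

theorem ok1 : Net.okb 1 n1 = true := by decide +kernel

theorem ok2 : Net.okb 1 n2 = true := by decide +kernel

theorem ok3 : Net.okb 1 n3 = true := by decide +kernel

theorem ok4 : Net.okb 1 n4 = true := by decide +kernel

theorem ok5 : Net.okb 1 n5 = true := by decide +kernel

theorem rel0 : T.rel 1 [1, 1] 0 1 = true := by decide +kernel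

theorem rel1 : T.rel 1 [2, 2] 0 1 = true := by decide +kernel

theorem rel2 : T.rel 1 [3, 3] 0 1 = true := by decide +kernel

theorem rel3 : T.rel 1 [4, 4] 0 1 = true := by decide +kernel

theorem rel4 : T.rel 1 [5, 5] 0 1 = true := by decide +kernel

theorem rel5 : T.rel 1 [6, 6] 0 1 = true := by decide +kernel

theorem rel6 : T.rel 1 [3, 4, 5, 3, 5, 4] 0 1 = true := by decide +kernel

theorem rel7 : T.rel 1 [2, 3, 4, 3, 2, 4] 0 1 = true := by decide +kernel

theorem rel8 : T.rel 1 [2, 5, 4, 2, 5, 4, 5, 2, 4, 5] 0 1 = true := by decide +kernel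

theorem rel9 : T.rel 1 [2, 3, 2, 3, 2, 3] 0 1 = true := by decide +kernel

theorem rel10 : T.rel 1 [2, 5, 2, 5, 2, 5] 0 1 = true := by decide +kernel

theorem rel11 : T.rel 1 [1, 3, 4, 3, 4] 0 1 = true := by decide +kernel

theorem rel12 : T.rel 1 [5, 6, 5, 6] 0 1 = true := by decide +kernel

theorem rel13 : T.rel 1 [1, 2, 1, 2] 0 1 = true := by decide +kernel

theorem rel14 : T.rel 1 [1, 4, 5, 1, 5, 4] 0 1 = true := by decide +kernel

theorem rel15 : T.rel 1 [4, 6, 4, 6, 4, 6] 0 1 = true := by decide +kernel

theorem rel16 : T.rel 1 [2, 6, 2, 6, 2, 6] 0 1 = true := by decide +kernel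

theorem rel17 : T.rel 1 [3, 5, 6, 1, 6, 1, 6, 3, 5] 0 1 = true := by decide +kernel

theorem rel18 : T.rel 1 [6, 1, 2, 3, 6, 3, 6, 4, 3, 2, 6, 2, 3] 0 1 = true := by decide +kernel

theorem rel19 : T.rel 1 [2, 1, 2, 1] 0 1 = true := by decide +kernel

theorem rel20 : T.rel 1 [3, 1, 3, 1] 0 1 = true := by decide +kernel

theorem rel21 : T.rel 1 [4, 1, 4, 1] 0 1 = true := by decide +kernel

theorem rel22 : T.rel 1 [5, 1, 5, 1] 0 1 = true := by decide +kernel

theorem rel23 : T.rel 1 [6, 1, 6, 1] 0 1 = true := by decide +kernel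

theorem rel24 : T.rel 1 [3, 2, 3, 2] 0 1 = true := by decide +kernel

theorem rel25 : T.rel 1 [4, 2, 4, 2] 0 1 = true := by decide +kernel

theorem rel26 : T.rel 1 [5, 2, 5, 2] 0 1 = true := by decide +kernel

theorem rel27 : T.rel 1 [6, 2, 6, 2] 0 1 = true := by decide +kernel

theorem rel28 : T.rel 1 [4, 3, 4, 3] 0 1 = true := by decide +kernel

theorem rel29 : T.rel 1 [5, 3, 5, 3] 0 1 = true := by decide +kernel

theorem rel30 : T.rel 1 [6, 3, 6, 3] 0 1 = true := by decide +kernel

theorem rel31 : T.rel 1 [5, 4, 5, 4] 0 1 = true := by decide +kernel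

theorem rel32 : T.rel 1 [6, 4, 6, 4] 0 1 = true := by decide +kernel

theorem rel33 : T.rel 1 [6, 5, 6, 5] 0 1 = true := by decide +kernel

theorem hcov : T.treeCov (ones 1) L 1 = true := by decide +kernel

theorem hg : lall (fun z => band (memL L z) (band (sub (ones 1) (T.let z).cl) (T.closed (ones 1) z))) gs = true := by decide +kernel

theorem hivk : ivOk (2 * 6) EX IV = true := by decide +kernel

theorem hrt : RT.ok (2 * 6) EX RL = true := by decide +kernel

theorem hdefs : defs F 20 = true := by decide +kernel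

noncomputable def st0_l : List Nat := [nat_lit 0x80000100000003, nat_lit 0xa0000100001403, nat_lit 0x1500002800004000050001500002806, nat_lit 0x2b0001680000803, nat_lit 0x1700002802, nat_lit 0x80001800000003, nat_lit 0xc0001800001c03, nat_lit 0xcc00002000070001a00003005, nat_lit 0x30001b0000a403, nat_lit 0x8000e402, nat_lit 0xe0001d80003c03, nat_lit 0x180000800003803, nat_lit 0xc8000fc0001e000110000c8000fc06, nat_lit 0x180002080003c03, nat_lit 0x210000fc02, nat_lit 0x68000240000e0002200004c05, nat_lit 0x1c0000900005c03, nat_lit 0x2400007000024000170002400007006, nat_lit 0x490002580004803, nat_lit 0x2600007002, nat_lit 0x11c0009c00045000078000f00009e000460000d0001380001c00044000098001380d, nat_lit 0x1b0002880003803, nat_lit 0x2900004802, nat_lit 0x2900013802, nat_lit 0x28000450002b8000f0000ac0003a0002b80005408, nat_lit 0x228001540002a000580000a00015006, nat_lit 0x780016c02, nat_lit 0x1e0002e80007c03, nat_lit 0x2f000078000b80001f0002f00007806, nat_lit 0xf80018402, nat_lit 0x200002e80008403, nat_lit 0x220003280008c03, nat_lit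 0x33000088000c8000230003300008806, nat_lit 0x3400008802, nat_lit 0x210003500008003, nat_lit 0x35800080000ba0006d000108001ac000ca00020000368001740a, nat_lit 0x108001bc02, nat_lit 0x240002e80009403, nat_lit 0x39000090000b8000250003900009006, nat_lit 0x128001d402, nat_lit 0x260003880009c03, nat_lit 0x3c000098000e0000270003c00009806, nat_lit 0x138001ec02]
theorem st0 : band (steps F IV RT base st0_l 20) (Nat.beq (Nat.add 20 (llen st0_l)) 63) = true := by decide +kernel

theorem ep0a : T.treePath [] (Nat.shiftLeft 1 0) 1 = true := by decide +kernel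

theorem ep0b : T.treePath [] (Nat.shiftLeft 1 0) 1 = true := by decide +kernel

theorem ep0c : band (lall (fun z => Nat.ble z 255) ([] ++ 1 :: [])) (concl F IV 63 0xe801 (encA ([] ++ 1 :: []) 0)) = true := by decide +kernel

theorem ep0d : band (Rule.ok (2 * 6) EX [] ⟨lapp [] [], [], 0, false⟩) (band (lall (memL L) []) (lall (memL L) [])) = true := by decide +kernel

theorem cov1 : T.cover 1 [(Nat.shiftLeft 1 0)] = true := by decide +kernel

theorem tl1 : Nat.beq (T.let 1).tt 0 = true := by decide +kernel

theorem ep1a : T.treePath [] (Nat.shiftLeft 1 0) 1 = true := by decide +kernel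

theorem ep1b : T.treePath [] (Nat.shiftLeft 1 0) 1 = true := by decide +kernel

theorem ep1c : band (lall (fun z => Nat.ble z 255) ([] ++ 2 :: [])) (concl F IV 63 0x17001 (encA ([] ++ 2 :: []) 0)) = true := by decide +kernel

theorem ep1d : band (Rule.ok (2 * 6) EX [] ⟨lapp [] [], [], 0, false⟩) (band (lall (memL L) []) (lall (memL L) [])) = true := by decide +kernel

theorem cov2 : T.cover 2 [(Nat.shiftLeft 1 0)] = true := by decide +kernel

theorem tl2 : Nat.beq (T.let 2).tt 0 = true := by decide +kernel

theorem ep2a : T.treePath [] (Nat.shiftLeft 1 0) 1 = true := by decide +kernel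

theorem ep2b : T.treePath [] (Nat.shiftLeft 1 0) 1 = true := by decide +kernel

theorem ep2c : band (lall (fun z => Nat.ble z 255) ([] ++ 3 :: [])) (concl F IV 63 0x18801 (encA ([] ++ 3 :: []) 0)) = true := by decide +kernel

theorem ep2d : band (Rule.ok (2 * 6) EX [] ⟨lapp [] [], [], 0, false⟩) (band (lall (memL L) []) (lall (memL L) [])) = true := by decide +kernel

theorem cov3 : T.cover 3 [(Nat.shiftLeft 1 0)] = true := by decide +kernel

theorem tl3 : Nat.beq (T.let 3).tt 0 = true := by decide +kernel

theorem ep3a : T.treePath [] (Nat.shiftLeft 1 0) 1 = true := by decide +kernel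

theorem ep3b : T.treePath [] (Nat.shiftLeft 1 0) 1 = true := by decide +kernel

theorem ep3c : band (lall (fun z => Nat.ble z 255) ([] ++ 4 :: [])) (concl F IV 63 0x1c001 (encA ([] ++ 4 :: []) 0)) = true := by decide +kernel

theorem ep3d : band (Rule.ok (2 * 6) EX [] ⟨lapp [] [], [], 0, false⟩) (band (lall (memL L) []) (lall (memL L) [])) = true := by decide +kernel

theorem cov4 : T.cover 4 [(Nat.shiftLeft 1 0)] = true := by decide +kernel

theorem tl4 : Nat.beq (T.let 4).tt 0 = true := by decide +kernel

theorem ep4a : T.treePath [] (Nat.shiftLeft 1 0) 1 = true := by decide +kernel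

theorem ep4b : T.treePath [] (Nat.shiftLeft 1 0) 1 = true := by decide +kernel

theorem ep4c : band (lall (fun z => Nat.ble z 255) ([] ++ 5 :: [])) (concl F IV 63 0x1d801 (encA ([] ++ 5 :: []) 0)) = true := by decide +kernel

theorem ep4d : band (Rule.ok (2 * 6) EX [] ⟨lapp [] [], [], 0, false⟩) (band (lall (memL L) []) (lall (memL L) [])) = true := by decide +kernel

theorem cov5 : T.cover 5 [(Nat.shiftLeft 1 0)] = true := by decide +kernel

theorem tl5 : Nat.beq (T.let 5).tt 0 = true := by decide +kernel

theorem ep5a : T.treePath [] (Nat.shiftLeft 1 0) 1 = true := by decide +kernel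

theorem ep5b : T.treePath [] (Nat.shiftLeft 1 0) 1 = true := by decide +kernel

theorem ep5c : band (lall (fun z => Nat.ble z 255) ([] ++ 6 :: [])) (concl F IV 63 0x1f001 (encA ([] ++ 6 :: []) 0)) = true := by decide +kernel

theorem ep5d : band (Rule.ok (2 * 6) EX [] ⟨lapp [] [], [], 0, false⟩) (band (lall (memL L) []) (lall (memL L) [])) = true := by decide +kernel

theorem cov6 : T.cover 6 [(Nat.shiftLeft 1 0)] = true := by decide +kernel

theorem tl6 : Nat.beq (T.let 6).tt 0 = true := by decide +kernel

end Cfsg.Agent.Spor.U35aA1
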