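import Cfsg.Agent.Spor.Chk

set_option autoImplicit false
set_option maxRecDepth 100000000
set_option Elab.async false
noncomputable section

namespace Cfsg.Agent.Spor.U35aA1

def n0 : Net := Net.nil

def n1 : Net := Net.nil

def n2 : Net := Net.nil

def n3 : Net := Net.nil

def n4 : Net := Net.nil

def n5 : Net := Net.nil

def ip1 : List Nat := []
def l1 : Let := ⟨0, false, 0x1, 0x0, [0x0]⟩

def ip2 : List Nat := []
def l2 : Let := ⟨1, false, 0x1, 0x0, [0x0]⟩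

def ip3 : List Nat := []
def l3 : Let := ⟨2, false, 0x1, 0x0, [0x0]⟩

def ip4 : List Nat := []
def l4 : Let := ⟨3, false, 0x1, 0x0, [0x0]⟩

def ip5 : List Nat := []
def l5 : Let := ⟨4, false, 0x1, 0x0, [0x0]⟩

def ip6 : List Nat := []
def l6 : Let := ⟨5, false, 0x1, 0x0, [0x0]⟩

def F : Nat := nat_lit 0x6000000000000000140001404000140000005000000000000000130001302000130000004000000000000000110000005000000001105000110001100000120001202000120001102000110000003000000000000000100001002000100000002000000000000000080000b030000b00008060000000008040000000000000000a00008000000e0000a060000800008000000f0000a000000c0000c040000f0000a030000e00000030000800008000000d00000000000900000030000d0000801000080000001000000000000000010000200000050000403000070000003000050000203000010000100000060000200000030000302000060000002000050001406000000001305000000001205000110001104000000001003000000000f060000a0000e020000a0000d02000090000c06000080000b05000080000a0400008000090300008000080200000000070400002000060300002000050100002000040400001000030300001000020200001000010100000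

def rt0_12 : RTree := RTree.node 0x1020102 ⟨[1, 2, 1, 2], [], 7, true⟩ (RTree.node 0x404 ⟨[4, 4], [], 28, false⟩ (RTree.node 0x202 ⟨[2, 2], [], 28, false⟩ (RTree.node 0x101 ⟨[1, 1], [], 28, false⟩ (RTree.leaf) (RTree.leaf)) (RTree.node 0x303 ⟨[3, 3], [], 28, false⟩ (RTree.leaf) (RTree.leaf))) (RTree.node 0x606 ⟨[6, 6], [], 28, false⟩ (RTree.node 0x505 ⟨[5, 5], [], 28, false⟩ (RTree.leaf) (RTree.leaf)) (RTree.leaf))) (RTree.node 0x2040204 ⟨[2, 4, 2, 4], [], 19, false⟩ (RTree.node 0x2030203 ⟨[2, 3, 2, 3], [], 18, false⟩ (RTree.node 0x2010201 ⟨[2, 1, 2, 1], [], 7, false⟩ (RTree.leaf) (RTree.leaf)) (RTree.leaf)) (RTree.node 0x3010301 ⟨[3, 1, 3, 1], [], 14, true⟩ (RTree.node 0x2050205 ⟨[2, 5, 2, 5], [], 20, false⟩ (RTree.leaf) (RTree.leaf)) (RTree.leaf)))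
def rt13_25 : RTree := RTree.node 0x40503050403 ⟨[4, 5, 3, 5, 4, 3], [], 0, false⟩ (RTree.node 0x403040103 ⟨[4, 3, 4, 1, 3], [0, 4], 5, true⟩ (RTree.node 0x4060406 ⟨[4, 6, 4, 6], [], 26, false⟩ (RTree.node 0x3040304 ⟨[3, 4, 3, 4], [], 22, false⟩ (RTree.leaf) (RTree.leaf)) (RTree.node 0x5040504 ⟨[5, 4, 5, 4], [], 25, true⟩ (RTree.leaf) (RTree.leaf))) (RTree.node 0x30403020402 ⟨[3, 4, 3, 2, 4, 2], [2], 1, true⟩ (RTree.node 0x30203020302 ⟨[3, 2, 3, 2, 3, 2], [], 3, false⟩ (RTree.leaf) (RTree.leaf)) (RTree.leaf))) (RTree.node 0x30506010601060305 ⟨[3, 5, 6, 1, 6, 1, 6, 3, 5], [], 11, true⟩ (RTree.node 0x60406040604 ⟨[6, 4, 6, 4, 6, 4], [], 9, false⟩ (RTree.node 0x50205020502 ⟨[5, 2, 5, 2, 5, 2], [], 4, false⟩ (RTree.leaf) (RTree.leaf)) (RTree.leaf)) (RTree.node 0x6040302060203060102030603 ⟨[6, 4, 3, 2, 6, 2, 3, 6, 1, 2, 3, 6, 3], [10, 0, 2, 4, 10, 4], 12, true⟩ (RTree.node 0x2050402050405020405 ⟨[2, 5, 4, 2, 5, 4, 5,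 2, 4, 5], [], 2, true⟩ (RTree.leaf) (RTree.leaf)) (RTree.leaf)))
def rt0_25 : RTree := RTree.node 0x3020302 ⟨[3, 2, 3, 2], [], 18, true⟩ (rt0_12) (rt13_25)
def RT : RTree := rt0_25

def NT : List Net := [n0, n1, n2, n3, n4, n5]
def LT : List Let := [⟨0, false, 0, 0, []⟩, l1, l2, l3, l4, l5, l6]
def T : Tab := ⟨NT, LT⟩
def EX : List (List Nat) := [[], [0], [2], [4], [6], [8], [10]]
def RL : List (List Nat) := [[6, 8, 4, 8, 6, 4], [6, 2, 4, 6, 4, 2], [8, 6, 2, 8, 6, 8, 2, 6, 8, 2], [4, 2, 4, 2, 4, 2], [8, 2, 8, 2, 8, 2], [6, 4, 6, 4, 0], [10, 8, 10, 8], [2, 0, 2, 0], [6, 8, 0, 8, 6, 0], [10, 6, 10, 6, 10, 6], [10, 2, 10, 2, 10, 2], [8, 4, 10, 0, 10, 0, 10, 8, 4], [4, 2, 10, 2, 4, 6, 10, 4, 10, 4, 2, 0, 10], [0, 2, 0, 2], [0, 4, 0, 4], [0, 6, 0, 6], [0, 8, 0, 8], [0, 10, 0, 10], [2, 4, 2, 4], [2, 6, 2, 6], [2, 8, 2, 8], [2, 10, 2, 10], [4, 6, 4, 6], [4, 8, 4, 8], [4, 10, 4, 10], [6, 8, 6, 8], [6, 10, 6, 10], [8, 10,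 8, 10]]
def XL : List (List Nat) := []
def BW : List (List Nat) := []
def IV : Nat := 0x6050403020100
def L : List Nat := [1, 2, 3, 4, 5, 6]
def gs : List Nat := [1, 2, 3, 4, 5, 6]
def base : List Nat := []

end Cfsg.Agent.Spor.U35aA1
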